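import Groth.Agent.L07.FibreDimAlg
import Groth.Agent.L07.QuasiSectionPrime
import Mathlib.RingTheory.KrullDimension.Regular
import Mathlib.RingTheory.KrullDimension.Polynomial

/-! Locally principal closed subsets with empty generic fibre: the ring statement. -/

set_option autoImplicit false
set_option linter.style.haveILetI false
set_option backward.isDefEq.respectTransparency false
set_option backward.isDefEq.respectTransparency.types false
universe u
open TensorProduct Topology TopologicalSpace

namespace Groth.L20.VertLP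

/-- Dimension drop for a closed subset containing no component. -/
theorem dim_add_one_le {T : Type*} [TopologicalSpace T] (Z : Set T) (hZ : IsClosed Z)
    (h : ∀ Y : Set T, IsIrreducible Y → IsClosed Y → Y ⊆ Z →
      ∃ Y' : Set T, IsIrreducible Y' ∧ IsClosed Y' ∧ Y ⊆ Y' ∧ ¬ Y' ⊆ Z) (m : ℕ)
    (hm : topologicalKrullDim T ≤ ((m + 1 : ℕ) : WithBot ℕ∞)) :
    topologicalKrullDim Z ≤ (m : WithBot ℕ∞) := by
  refine iSup_le fun l => ?_
  let ι : IrreducibleCloseds Z → IrreducibleCloseds T := fun c =>
    ⟨Subtype.val '' (c : Set Z), c.2.image _ continuous_subtype_val.continuousOn,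
      hZ.isClosedEmbedding_subtypeVal.isClosedMap _ c.3⟩
  have hι : StrictMono ι := fun a b hab => by
    refine lt_of_le_of_ne (Set.image_mono hab.le) fun he => hab.ne ?_
    exact TopologicalSpace.IrreducibleCloseds.ext (Subtype.val_injective.image_injective
      (congrArg (fun c : IrreducibleCloseds T => (c : Set T)) he))
  let l' : LTSeries (IrreducibleCloseds T) := l.map ι hι
  obtain ⟨Y', hY'i, hY'c, hle, hnot⟩ := h (l'.last : Set T) l'.last.2 l'.last.3 (by
    rw [show l'.last = ι l.last from rfl]; exact Subtype.coe_image_subset _ _)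
  have hlt : l'.last < (⟨Y', hY'i, hY'c⟩ : IrreducibleCloseds T) :=
    lt_of_le_of_ne hle fun he => hnot (by
      rw [← show ((l'.last : IrreducibleCloseds T) : Set T) = Y' from congrArg (fun c : IrreducibleCloseds T => (c : Set T)) he]
      rw [show l'.last = ι l.last from rfl]; exact Subtype.coe_image_subset _ _)
  have h2 := (Order.LTSeries.length_le_krullDim (l'.snoc _ hlt)).trans hm
  have h3 : l.length + 1 ≤ m + 1 := by
    have : ((l'.snoc _ hlt).length : WithBot ℕ∞) ≤ ((m + 1 : ℕ) : WithBot ℕ∞) := h2
    exact_mod_cast this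
  exact_mod_cast Nat.le_of_succ_le_succ h3

/-- A quasi-finite algebra has at most the dimension of the base. -/
theorem ringKrullDim_le_of_quasiFinite (R S : Type u) [CommRing R] [CommRing S] [Algebra R S]
    [Algebra.QuasiFinite R S] : ringKrullDim S ≤ ringKrullDim R := by
  refine Order.krullDim_le_of_strictMono (PrimeSpectrum.comap (algebraMap R S)) fun P Q hPQ => ?_
  refine lt_of_le_of_ne (Ideal.comap_mono hPQ.le) fun he => hPQ.ne (PrimeSpectrum.ext ?_)
  haveI := P.2; haveI := Q.2
  exact Algebra.QuasiFiniteAt.eq_of_le_of_under_eq (R := R) hPQ.le (congrArg PrimeSpectrum.asIdeal he)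

theorem isIntegrallyClosed_poly (E : Type) [Fintype E] (C : Type u) [CommRing C] [IsDomain C]
    [IsIntegrallyClosed C] : IsIntegrallyClosed (MvPolynomial E C) := by
  haveI := Groth.L07.Chevalley.isIntegrallyClosed_mvPolynomial C (Fintype.card E)
  exact IsIntegrallyClosed.of_equiv (MvPolynomial.renameEquiv C (Fintype.equivFin E).symm).toRingEquiv

theorem isIntegral_map (E : Type) {A C : Type u} [CommRing A] [CommRing C] (ν : A →+* C) (h : ν.IsIntegral) :
    (MvPolynomial.map (σ := E) ν).IsIntegral := fun p => by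
  induction p using MvPolynomial.induction_on with
  | C a =>
    obtain ⟨f, hf, hfe⟩ := h a
    refine ⟨f.map MvPolynomial.C, hf.map _, ?_⟩
    rw [Polynomial.eval₂_map]
    have hc : (MvPolynomial.map (σ := E) ν).comp MvPolynomial.C = (MvPolynomial.C (σ := E)).comp ν :=
      RingHom.ext fun r => MvPolynomial.map_C ν r
    rw [hc, ← Polynomial.hom_eval₂]
    exact (congrArg _ hfe).trans (map_zero _)
  | add p q hp hq => exact hp.add _ hq
  | mul_X p i hp =>
    refine hp.mul _ ?_
    rw [show (MvPolynomial.X i : MvPolynomial E C) = MvPolynomial.map ν (MvPolynomial.X i) from (MvPolynomial.map_X ν i).symm]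
    exact RingHom.isIntegralElem_map _

/-- A quasi-finite algebra killed by an element has the dimension of the quotient at most. -/
theorem ringKrullDim_le_quotient (R K F : Type u) [CommRing R] [CommRing K] [CommRing F] [Algebra R F]
    [Algebra.QuasiFinite R F] (μ : R →+* K) (f' : K →+* F) (h : f'.comp μ = algebraMap R F) (x : K)
    (hx : f' x = 0) : ringKrullDim F ≤ ringKrullDim (K ⧸ Ideal.span {x}) := by
  letI : Algebra (K ⧸ Ideal.span {x}) F := (Ideal.Quotient.lift _ f' fun a ha => by
    obtain ⟨c, rfl⟩ := Ideal.mem_span_singleton'.mp ha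
    rw [map_mul, hx, mul_zero]).toAlgebra
  letI : Algebra R (K ⧸ Ideal.span {x}) := ((Ideal.Quotient.mk _).comp μ).toAlgebra
  haveI : IsScalarTower R (K ⧸ Ideal.span {x}) F :=
    IsScalarTower.of_algebraMap_eq fun a => (RingHom.congr_fun h a).symm
  haveI : Algebra.QuasiFinite (K ⧸ Ideal.span {x}) F := Algebra.QuasiFinite.of_restrictScalars R _ F
  exact ringKrullDim_le_of_quasiFinite _ _

/-- A prime below `q` over the image of `P0` containing `g`. -/
theorem exists_prime_mem {A B : Type u} [CommRing A] [CommRing B] [Algebra A B] [Algebra.FiniteType A B]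
    (g : B) (q P0 : Ideal B) [q.IsPrime] [P0.IsPrime] (hP0 : ∀ p : Ideal B, p.IsPrime → P0 ≤ p)
    (hg : g ∈ q) (m : ℕ)
    (hs : topologicalKrullDim {p : PrimeSpectrum B |
      g ∈ p.asIdeal ∧ p.asIdeal.comap (algebraMap A B) = q.comap (algebraMap A B)} ≤ (m : WithBot ℕ∞))
    (hη : ∀ r, r ∉ P0 → ((m + 1 : ℕ) : WithBot ℕ∞) ≤ topologicalKrullDim {p : PrimeSpectrum B |
      r ∉ p.asIdeal ∧ p.asIdeal.comap (algebraMap A B) = P0.comap (algebraMap A B)}) :
    ∃ w : Ideal B, w.IsPrime ∧ w ≤ q ∧ w.comap (algebraMap A B) = P0.comap (algebraMap A B) ∧ g ∈ w := by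
  classical
  let A1 := MvPolynomial (Fin 1) A
  letI : Algebra A1 B := (MvPolynomial.aeval fun _ => g : A1 →ₐ[A] B).toRingHom.toAlgebra
  haveI : IsScalarTower A A1 B := IsScalarTower.of_algHom (MvPolynomial.aeval fun _ => g)
  haveI : Algebra.FiniteType A1 B := Algebra.FiniteType.of_restrictScalars_finiteType A A1 B
  have hX : ∀ i, algebraMap A1 B (MvPolynomial.X i) = g := fun i => MvPolynomial.aeval_X _ i
  let P : PrimeSpectrum B := ⟨q, inferInstance⟩
  obtain ⟨r, hr, s, hsm, ψ, hψ⟩ := Groth.L07.FibreDim.exists_quasiFinite_mvPolynomial (R := A1) P m (by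
    rw [← PrimeSpectrum.topologicalKrullDim_eq_ringKrullDim,
      ← (PrimeSpectrum.preimageHomeomorphFiber A1 B (PrimeSpectrum.comap (algebraMap A1 B) P)).isHomeomorph.topologicalKrullDim_eq]
    refine le_trans ?_ hs
    refine le_trans (le_of_eq (Groth.L22.SchemeDim.topologicalKrullDim_eq_of_isEmbedding
      (f := fun p : PrimeSpectrum.comap (algebraMap A1 B) ⁻¹' {PrimeSpectrum.comap (algebraMap A1 B) P} => p.1)
      IsEmbedding.subtypeVal rfl).symm) (Groth.L22.SchemeDim.topologicalKrullDim_mono ?_)
    rintro _ ⟨⟨p, hp⟩, rfl⟩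
    have hp' : p.asIdeal.comap (algebraMap A1 B) = q.comap (algebraMap A1 B) := congrArg PrimeSpectrum.asIdeal hp
    refine ⟨?_, ?_⟩
    · show g ∈ p.asIdeal
      rw [← hX 0, ← Ideal.mem_comap, hp', Ideal.mem_comap, hX]
      exact hg
    · rw [IsScalarTower.algebraMap_eq A A1 B, ← Ideal.comap_comap, ← Ideal.comap_comap, hp'])
  let Br := Localization.Away r
  haveI : Algebra.FiniteType B Br := IsLocalization.finiteType_of_monoid_fg (Submonoid.powers r) Br
  let E := Fin 1 ⊕ Fin s
  let T : E → Br := Sum.elim (fun _ => algebraMap B Br g) fun i => algebraMap B Br (ψ (MvPolynomial.X i))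
  letI : Algebra (MvPolynomial E A) Br := (MvPolynomial.aeval T : MvPolynomial E A →ₐ[A] Br).toRingHom.toAlgebra
  haveI : IsScalarTower A (MvPolynomial E A) Br := IsScalarTower.of_algHom (MvPolynomial.aeval T)
  haveI : Algebra.FiniteType A Br := Algebra.FiniteType.trans ‹Algebra.FiniteType A B› inferInstance
  haveI : Algebra.FiniteType (MvPolynomial E A) Br := Algebra.FiniteType.of_restrictScalars_finiteType A _ _
  haveI : Algebra.QuasiFinite (MvPolynomial E A) Br := by
    let ψr := (algebraMap B Br).comp ψ.toRingHom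
    letI : Algebra (MvPolynomial (Fin s) A1) Br := ψr.toAlgebra
    haveI : Algebra.QuasiFinite (MvPolynomial (Fin s) A1) Br := RingHom.quasiFinite_algebraMap.mp hψ
    let e : MvPolynomial E A →ₐ[A] MvPolynomial (Fin s) A1 :=
      MvPolynomial.aeval (Sum.elim (fun i => MvPolynomial.C (MvPolynomial.X i)) MvPolynomial.X)
    have he : Function.Surjective e := by
      intro p
      induction p using MvPolynomial.induction_on with
      | C a =>
        induction a using MvPolynomial.induction_on with
        | C a => exact ⟨MvPolynomial.C a, by simp [e]; rfl⟩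
        | add p q hp hq =>
          obtain ⟨p', hp⟩ := hp; obtain ⟨q', hq⟩ := hq
          exact ⟨p' + q', by rw [map_add, hp, hq, map_add]⟩
        | mul_X p i hp =>
          obtain ⟨p', hp⟩ := hp
          exact ⟨p' * MvPolynomial.X (Sum.inl i), by simp [e] at hp ⊢; rw [hp]⟩
      | add p q hp hq =>
        obtain ⟨p', hp⟩ := hp; obtain ⟨q', hq⟩ := hq
        exact ⟨p' + q', by rw [map_add, hp, hq]⟩
      | mul_X p i hp =>
        obtain ⟨p', hp⟩ := hp
        exact ⟨p' * MvPolynomial.X (Sum.inr i), by simp [e] at hp ⊢; rw [hp]⟩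
    letI : Algebra (MvPolynomial E A) (MvPolynomial (Fin s) A1) := e.toRingHom.toAlgebra
    haveI : IsScalarTower (MvPolynomial E A) (MvPolynomial (Fin s) A1) Br := by
      refine IsScalarTower.of_algebraMap_eq' ?_
      refine MvPolynomial.ringHom_ext (fun a => ?_) (fun i => ?_)
      · show MvPolynomial.aeval T (MvPolynomial.C a) = algebraMap B Br (ψ (e (MvPolynomial.C a)))
        rw [MvPolynomial.aeval_C, ← MvPolynomial.algebraMap_eq, e.commutes,
          IsScalarTower.algebraMap_apply A A1 (MvPolynomial (Fin s) A1), ψ.commutes,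
          ← IsScalarTower.algebraMap_apply A A1 B, ← IsScalarTower.algebraMap_apply A B Br]
      · show MvPolynomial.aeval T (MvPolynomial.X i) = algebraMap B Br (ψ (e (MvPolynomial.X i)))
        rw [MvPolynomial.aeval_X]
        rcases i with i | i
        · simp only [e, T, MvPolynomial.aeval_X, Sum.elim_inl]
          rw [← MvPolynomial.algebraMap_eq, ψ.commutes, hX]
        · simp only [e, T, MvPolynomial.aeval_X, Sum.elim_inr]
    haveI : Module.Finite (MvPolynomial E A) (MvPolynomial (Fin s) A1) :=
      RingHom.finite_algebraMap.mp (RingHom.Finite.of_surjective _ he)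
    exact Algebra.QuasiFinite.trans (MvPolynomial E A) (MvPolynomial (Fin s) A1) Br
  have hr0 : r ∉ P0 := fun h => hr (hP0 q inferInstance h)
  have hd : ∀ p : Ideal B, p.IsPrime → r ∉ p → Disjoint (Submonoid.powers r : Set B) ↑p := fun p hp hrp =>
    (Ideal.disjoint_powers_iff_notMem r hp.isRadical).mpr hrp
  let q' := q.map (algebraMap B Br)
  let P' := P0.map (algebraMap B Br)
  haveI : q'.IsPrime := IsLocalization.isPrime_of_isPrime_disjoint (Submonoid.powers r) Br q inferInstance (hd q inferInstance hr)
  haveI : P'.IsPrime := IsLocalization.isPrime_of_isPrime_disjoint (Submonoid.powers r) Br P0 inferInstance (hd P0 inferInstance hr0)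
  have hq' : q'.comap (algebraMap B Br) = q :=
    IsLocalization.comap_map_of_isPrime_disjoint (Submonoid.powers r) Br inferInstance (hd q inferInstance hr)
  have hP' : P'.comap (algebraMap B Br) = P0 :=
    IsLocalization.comap_map_of_isPrime_disjoint (Submonoid.powers r) Br inferInstance (hd P0 inferInstance hr0)
  have hle : P' ≤ q' := Ideal.map_mono (hP0 q inferInstance)
  let q0 := P0.comap (algebraMap A B)
  have hq0 : P'.comap (algebraMap A Br) = q0 := by
    rw [IsScalarTower.algebraMap_eq A B Br, ← Ideal.comap_comap, hP']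
  have hgen : P'.comap (algebraMap (MvPolynomial E A) Br) ≤ q0.map MvPolynomial.C := by
    let κ := q0.ResidueField
    let F := Br ⊗[A] κ
    have hF : ((m + 1 : ℕ) : WithBot ℕ∞) ≤ ringKrullDim F := by
      refine (hη r hr0).trans ?_
      rw [ringKrullDim_eq_of_ringEquiv (Algebra.TensorProduct.comm A Br κ).toRingEquiv,
        ← PrimeSpectrum.topologicalKrullDim_eq_ringKrullDim,
        ← (PrimeSpectrum.preimageHomeomorphFiber A Br ⟨q0, inferInstance⟩).isHomeomorph.topologicalKrullDim_eq]
      have he := PrimeSpectrum.localization_away_isOpenEmbedding Br r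
      refine le_of_eq (Groth.L22.SchemeDim.topologicalKrullDim_eq_of_isEmbedding (α := PrimeSpectrum.comap (algebraMap A Br) ⁻¹' {(⟨q0, inferInstance⟩ : PrimeSpectrum A)})
        (f := fun p => PrimeSpectrum.comap (algebraMap B Br) p.1) (he.isEmbedding.comp IsEmbedding.subtypeVal) ?_)
      ext p
      constructor
      · rintro ⟨⟨p, hp⟩, rfl⟩
        refine ⟨fun h => p.2.ne_top (Ideal.eq_top_of_isUnit_mem _ h (IsLocalization.Away.algebraMap_isUnit r)), ?_⟩
        exact (Ideal.comap_comap _ _).trans ((congrArg (fun φ => Ideal.comap φ p.asIdeal)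
          (IsScalarTower.algebraMap_eq A B Br)).symm.trans (congrArg PrimeSpectrum.asIdeal hp))
      · rintro ⟨hp1, hp2⟩
        have : p ∈ Set.range (PrimeSpectrum.comap (algebraMap B Br)) := by
          rw [PrimeSpectrum.localization_away_comap_range Br r]; exact hp1
        obtain ⟨p', rfl⟩ := this
        refine ⟨⟨p', PrimeSpectrum.ext ?_⟩, rfl⟩
        show p'.asIdeal.comap (algebraMap A Br) = q0
        rw [IsScalarTower.algebraMap_eq A B Br, ← Ideal.comap_comap]
        exact hp2
    haveI : Algebra.QuasiFinite Br F := inferInstance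
    haveI : Algebra.QuasiFinite (MvPolynomial E A) F := Algebra.QuasiFinite.trans (MvPolynomial E A) Br F
    let f' : MvPolynomial E κ →+* F := MvPolynomial.eval₂Hom
      (Algebra.TensorProduct.includeRight : κ →ₐ[A] F).toRingHom (fun i => T i ⊗ₜ[A] (1 : κ))
    have hf' : f'.comp (MvPolynomial.map (algebraMap A κ)) = algebraMap (MvPolynomial E A) F := by
      refine MvPolynomial.ringHom_ext (fun a => ?_) fun i => ?_
      · rw [RingHom.comp_apply, MvPolynomial.map_C, MvPolynomial.eval₂Hom_C,
          IsScalarTower.algebraMap_apply (MvPolynomial E A) Br F, ← MvPolynomial.algebraMap_eq,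
          ← IsScalarTower.algebraMap_apply A (MvPolynomial E A) Br]
        show (1 : Br) ⊗ₜ[A] algebraMap A κ a = algebraMap A Br a ⊗ₜ[A] (1 : κ)
        rw [Algebra.algebraMap_eq_smul_one, Algebra.algebraMap_eq_smul_one, TensorProduct.smul_tmul]
      · rw [RingHom.comp_apply, MvPolynomial.map_X, MvPolynomial.eval₂Hom_X',
          IsScalarTower.algebraMap_apply (MvPolynomial E A) Br F]
        show T i ⊗ₜ[A] (1 : κ) = MvPolynomial.aeval T (MvPolynomial.X i) ⊗ₜ[A] (1 : κ)
        rw [MvPolynomial.aeval_X]
    have hinj : Function.Injective f' := by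
      rw [injective_iff_map_eq_zero]
      intro x' hx
      by_contra hx'
      have h1 := ringKrullDim_le_quotient (MvPolynomial E A) (MvPolynomial E κ) F _ f' hf' x' hx
      have h2 := ringKrullDim_quotient_succ_le_of_nonZeroDivisor (mem_nonZeroDivisors_of_ne_zero hx')
      rw [MvPolynomial.ringKrullDim_of_isNoetherianRing, ringKrullDim_eq_zero_of_field, zero_add] at h2
      have h3 : ((m + 1 : ℕ) : WithBot ℕ∞) + 1 ≤ ((Nat.card E : ℕ) : WithBot ℕ∞) :=
        (add_le_add (hF.trans h1) le_rfl).trans h2
      have h4 : m + 1 + 1 ≤ Nat.card E := by exact_mod_cast h3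
      simp [E] at h4
      omega
    intro p hp
    have hnil : IsNilpotent (algebraMap (MvPolynomial E A) Br p) := by
      rw [nilpotent_iff_mem_prime]
      intro J hJ
      exact (Ideal.map_le_iff_le_comap.mpr (hP0 _ (Ideal.IsPrime.comap _)) : P' ≤ J) hp
    have hnil' : IsNilpotent (f' (MvPolynomial.map (algebraMap A κ) p)) := by
      rw [← RingHom.comp_apply, hf', IsScalarTower.algebraMap_apply (MvPolynomial E A) Br F]
      exact hnil.map (algebraMap Br F)
    have h5 : MvPolynomial.map (algebraMap A κ) p = 0 := ((IsNilpotent.map_iff hinj).mp hnil').eq_zero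
    rw [← Ideal.ker_algebraMap_residueField q0, ← MvPolynomial.ker_map]
    exact h5
  let B0 := A ⧸ q0
  let C := integralClosure B0 (FractionRing B0)
  haveI : IsIntegrallyClosed C := integralClosure.isIntegrallyClosedOfFiniteExtension (FractionRing B0)
  have hBC : Function.Injective (algebraMap B0 C) := fun a b h =>
    IsFractionRing.injective B0 (FractionRing B0) (congrArg Subtype.val h)
  let ν : A →+* C := (algebraMap B0 C).comp (Ideal.Quotient.mk q0)
  have hνker : RingHom.ker ν = q0 := by
    rw [RingHom.ker_comp_of_injective _ hBC, Ideal.mk_ker]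
  letI : Algebra A C := ν.toAlgebra
  haveI : IsScalarTower A B0 C := IsScalarTower.of_algebraMap_eq fun r => rfl
  haveI : Algebra.IsIntegral A B0 :=
    Algebra.IsIntegral.of_surjective (Ideal.Quotient.mkₐ A q0) Ideal.Quotient.mk_surjective
  haveI : Algebra.IsIntegral A C := Algebra.IsIntegral.trans B0
  haveI : IsIntegrallyClosed (MvPolynomial E C) := isIntegrallyClosed_poly E C
  letI : Algebra (MvPolynomial E A) (MvPolynomial E C) := (MvPolynomial.map ν).toAlgebra
  haveI : Algebra.IsIntegral (MvPolynomial E A) (MvPolynomial E C) :=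
    ⟨isIntegral_map E ν fun c => Algebra.IsIntegral.isIntegral (R := A) c⟩
  obtain ⟨p', hp'p, hp'o, hp'⟩ := Groth.L07.QuasiSection.exists_normal_lift
    (A := MvPolynomial E A) (T := MvPolynomial E C) q' P' hle (by
      rw [show RingHom.ker (algebraMap (MvPolynomial E A) (MvPolynomial E C)) = (RingHom.ker ν).map MvPolynomial.C
        from MvPolynomial.ker_map ν, hνker]
      refine le_antisymm (Ideal.map_le_iff_le_comap.mpr fun a ha => ?_) hgen
      show algebraMap (MvPolynomial E A) Br (MvPolynomial.C a) ∈ P'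
      rw [← MvPolynomial.algebraMap_eq, ← IsScalarTower.algebraMap_apply, ← Ideal.mem_comap, hq0]
      exact ha)
  haveI := hp'p
  let X0 : E := Sum.inl 0
  let t' : Ideal (MvPolynomial E C) := Ideal.span {MvPolynomial.X X0}
  have ht'le : t' ≤ p' := by
    rw [Ideal.span_singleton_le_iff_mem, show (MvPolynomial.X X0 : MvPolynomial E C) =
      algebraMap (MvPolynomial E A) (MvPolynomial E C) (MvPolynomial.X X0) from (MvPolynomial.map_X ν X0).symm,
      ← Ideal.mem_comap, hp'o, Ideal.mem_comap]
    show MvPolynomial.aeval T (MvPolynomial.X X0) ∈ q'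
    rw [MvPolynomial.aeval_X]
    exact Ideal.mem_map_of_mem _ hg
  have ht'p : t'.IsPrime := (Ideal.span_singleton_prime (MvPolynomial.X_ne_zero X0)).mpr MvPolynomial.X_prime
  obtain ⟨w, hwp, hwle, hwP, hwo⟩ := hp' t' ht'p ht'le
  have ht'0 : t'.comap MvPolynomial.C = (⊥ : Ideal C) := by
    refine le_bot_iff.mp fun c hc => ?_
    obtain ⟨d, hd⟩ := Ideal.mem_span_singleton'.mp hc
    have := congrArg MvPolynomial.constantCoeff hd
    simp at this
    exact this.symm
  refine ⟨w.comap (algebraMap B Br), Ideal.IsPrime.comap _, fun b hb => hq'.le (hwle hb), ?_, ?_⟩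
  · rw [Ideal.comap_comap, ← IsScalarTower.algebraMap_eq, IsScalarTower.algebraMap_eq A (MvPolynomial E A) Br,
      ← Ideal.comap_comap, hwo, Ideal.comap_comap,
      show (algebraMap (MvPolynomial E A) (MvPolynomial E C)).comp (algebraMap A (MvPolynomial E A)) =
        (MvPolynomial.C (σ := E)).comp ν from RingHom.ext fun r => MvPolynomial.map_C ν r,
      ← Ideal.comap_comap, ht'0, ← RingHom.ker_eq_comap_bot, hνker]
  · show algebraMap B Br g ∈ w
    rw [show algebraMap B Br g = algebraMap (MvPolynomial E A) Br (MvPolynomial.X X0) from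
      (MvPolynomial.aeval_X T X0).symm, ← Ideal.mem_comap, hwo, Ideal.mem_comap]
    rw [show algebraMap (MvPolynomial E A) (MvPolynomial E C) (MvPolynomial.X X0) = MvPolynomial.X X0 from
      MvPolynomial.map_X ν X0]
    exact Ideal.subset_span rfl

end Groth.L20.VertLP
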